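import Mathlib
import Cfsg.Agent.Offender.Replacement

/-!
Elementary abelian subgroups of largest order are best offenders on normal elementary abelian subgroups.
-/

namespace CfsgLib.Offender

variable {G : Type*} [Group G] [Finite G] {p : ℕ}

theorem isElementaryAbelian_sup {A B : Subgroup G} (hA : Cfsg.IsElementaryAbelian p A)
    (hB : Cfsg.IsElementaryAbelian p B) (hAB : A ≤ Subgroup.centralizer (B : Set G)) :
    Cfsg.IsElementaryAbelian p (A ⊔ B) := by
  haveI := hA.1
  haveI := hB.1
  rw [← Subgroup.closure_eq A, ← Subgroup.closure_eq B, ← Subgroup.closure_union]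
  haveI hc : IsMulCommutative (Subgroup.closure ((A : Set G) ∪ B)) := by
    apply Subgroup.isMulCommutative_closure
    rintro a (ha | ha) b (hb | hb)
    · exact setLike_mul_comm ha hb
    · exact (Subgroup.mem_centralizer_iff.mp (hAB ha) b hb).symm
    · exact Subgroup.mem_centralizer_iff.mp (hAB hb) a ha
    · exact setLike_mul_comm ha hb
  refine ⟨hc, fun a ha => ?_⟩
  induction ha using Subgroup.closure_induction with
  | mem y hy => rcases hy with hy | hy; exacts [hA.2 y hy, hB.2 y hy]
  | one => exact one_pow p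
  | mul a b ha hb iha ihb =>
    rw [(show Commute a b from setLike_mul_comm ha hb).mul_pow, iha, ihb, one_mul]
  | inv a _ iha => rw [inv_pow, iha, inv_one]

theorem isElementaryAbelian_mono {A B : Subgroup G} (hA : Cfsg.IsElementaryAbelian p A) (h : B ≤ A) :
    Cfsg.IsElementaryAbelian p B :=
  haveI := hA.1
  ⟨⟨⟨fun a b => Subtype.ext (setLike_mul_comm (h a.2) (h b.2))⟩⟩, fun a ha => hA.2 a (h ha)⟩

theorem inf_centralizer_eq {V A : Subgroup G} (hV : Cfsg.IsElementaryAbelian p V)
    (hA : A ∈ Cfsg.maxElementaryAbelianSubgroups p G) :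
    V ⊓ Subgroup.centralizer (A : Set G) = V ⊓ A := by
  haveI := hA.1.1
  refine le_antisymm (le_inf inf_le_left ?_) (le_inf inf_le_left ?_)
  · have h := isElementaryAbelian_sup (isElementaryAbelian_mono hV inf_le_left) hA.1
      (inf_le_right : V ⊓ Subgroup.centralizer (A : Set G) ≤ Subgroup.centralizer (A : Set G))
    exact le_sup_left.trans (Subgroup.eq_of_le_of_card_ge le_sup_right (hA.2 _ h)).ge
  · exact fun x hx => Subgroup.mem_centralizer_iff.mpr fun a ha => setLike_mul_comm ha hx.2

theorem isBestOffenderOn_of_max {V A : Subgroup G} (hV : Cfsg.IsElementaryAbelian p V)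
    (hA : A ∈ Cfsg.maxElementaryAbelianSubgroups p G) : Cfsg.IsBestOffenderOn p V A := by
  haveI := hA.1.1
  refine ⟨fun B hB => ?_, ?_, fun a ha => by rw [hA.1.2 a ha]; exact Subgroup.one_mem _⟩
  · have hs := isElementaryAbelian_sup (isElementaryAbelian_mono hA.1 hB)
      (isElementaryAbelian_mono hV (inf_le_left : V ⊓ Subgroup.centralizer (B : Set G) ≤ V))
      (Subgroup.le_centralizer_iff.mp inf_le_right)
    calc Nat.card B * Nat.card ↥(V ⊓ Subgroup.centralizer (B : Set G))
        ≤ Nat.card ↥(B ⊓ (V ⊓ Subgroup.centralizer (B : Set G))) *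
            Nat.card ↥(B ⊔ (V ⊓ Subgroup.centralizer (B : Set G))) := card_mul_le _ _
      _ ≤ Nat.card ↥(V ⊓ Subgroup.centralizer (A : Set G)) * Nat.card A := by
          refine Nat.mul_le_mul (Subgroup.card_le_of_le ?_) (hA.2 _ hs)
          rw [inf_centralizer_eq hV hA]
          exact le_inf (inf_le_right.trans inf_le_left) (inf_le_left.trans hB)
      _ = _ := mul_comm _ _
  · rw [Subgroup.commutator_eq_bot_iff_le_centralizer.mpr
      (fun a ha => Subgroup.mem_centralizer_iff.mpr fun b hb => setLike_mul_comm hb ha)]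
    exact bot_le

end CfsgLib.Offender
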